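import Groth.Agent.AffineNhd.PerComponent
import Groth.Agent.AffineNhd.Glue
import Groth.Agent.KrullAki.Valuation
import Groth.Agent.S7665
import Mathlib.AlgebraicGeometry.FunctionField
import Mathlib.AlgebraicGeometry.Morphisms.Separated

/-!
# Finitely many points with local rings of dimension at most one lie in an affine open
-/

set_option autoImplicit false
set_option backward.isDefEq.respectTransparency false
set_option backward.isDefEq.respectTransparency.types false

universe u

open CategoryTheory CategoryTheory.Limits AlgebraicGeometry TopologicalSpace IsLocalRing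

namespace Groth.Agent.AffineNhd

/-- A point whose local ring in an integral scheme is a field is the generic point. -/
theorem eq_genericPoint_of_isField {X : Scheme.{u}} [IsIntegral X] {x : X}
    (h : IsField (X.presheaf.stalk x)) : x = genericPoint X := by
  letI := h.toField
  have hη : genericPoint X ∈ Set.range (X.fromSpecStalk x) := by
    rw [Scheme.range_fromSpecStalk]
    exact (genericPoint_spec X).specializes trivial
  obtain ⟨p, hp⟩ := hη
  have hsub : Subsingleton (PrimeSpectrum (X.presheaf.stalk x)) :=
    inferInstanceAs (Subsingleton (PrimeSpectrum (X.presheaf.stalk x)))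
  rw [← hp, show p = closedPoint (X.presheaf.stalk x) from Subsingleton.elim (α := PrimeSpectrum _) _ _,
    Scheme.fromSpecStalk_closedPoint]

/-- The local ring at a point inside the function field. -/
noncomputable def localSubring (X : Scheme.{u}) [IsIntegral X] (x : X) : Subring X.functionField :=
  (algebraMap (X.presheaf.stalk x) X.functionField).range

/-- Its identification with the local ring. -/
noncomputable def localEquiv (X : Scheme.{u}) [IsIntegral X] (x : X) :
    X.presheaf.stalk x ≃+* localSubring X x :=
  RingEquiv.ofBijective (algebraMap (X.presheaf.stalk x) X.functionField).rangeRestrict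
    ⟨fun _ _ h => IsFractionRing.injective (X.presheaf.stalk x) X.functionField (congrArg Subtype.val h),
      (algebraMap (X.presheaf.stalk x) X.functionField).rangeRestrict_surjective⟩

theorem isFractionRing_localSubring (X : Scheme.{u}) [IsIntegral X] (x : X) :
    IsFractionRing (localSubring X x) X.functionField := by
  refine IsFractionRing.of_field _ _ fun z => ?_
  obtain ⟨p, q, -, rfl⟩ := IsFractionRing.div_surjective (A := X.presheaf.stalk x) z
  exact ⟨localEquiv X x p, localEquiv X x q, rfl⟩

/-- The morphism `Spec O → X` defined by a subring containing the local ring at `x`. -/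
noncomputable def fromSubring (X : Scheme.{u}) [IsIntegral X] (x : X) (O : Subring X.functionField)
    (h : localSubring X x ≤ O) : Spec (CommRingCat.of O) ⟶ X :=
  Spec.map (CommRingCat.ofHom ((Subring.inclusion h).comp (localEquiv X x).toRingHom)) ≫ X.fromSpecStalk x

theorem specMap_subtype_fromSubring (X : Scheme.{u}) [IsIntegral X] (x : X) (O : Subring X.functionField)
    (h : localSubring X x ≤ O) :
    Spec.map (CommRingCat.ofHom O.subtype) ≫ fromSubring X x O h = X.fromSpecStalk (genericPoint X) := by
  rw [fromSubring, ← Spec.map_comp_assoc,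
    ← Scheme.SpecMap_stalkSpecializes_fromSpecStalk
      ((genericPoint_spec X).specializes (trivial : x ∈ (Set.univ : Set X)))]
  rfl

/-- The map of spectra of the fraction field is dominant. -/
theorem isDominant_specMap_subtype {K : Type u} [Field K] (O : Subring K) :
    IsDominant (Spec.map (CommRingCat.ofHom O.subtype)) := by
  refine ⟨(denseRange_iff_closure_range).2 (Set.eq_univ_of_univ_subset ?_)⟩
  intro p _
  let ξ : PrimeSpectrum K := ⟨⊥, Ideal.isPrime_bot⟩
  have hle : ({Spec.map (CommRingCat.ofHom O.subtype) ξ} : Set _) ⊆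
      Set.range (Spec.map (CommRingCat.ofHom O.subtype)) := Set.singleton_subset_iff.2 ⟨ξ, rfl⟩
  refine closure_mono hle (specializes_iff_mem_closure.1
    ((PrimeSpectrum.le_iff_specializes (Spec.map (CommRingCat.ofHom O.subtype) ξ) p).1 ?_))
  show (⊥ : Ideal K).comap O.subtype ≤ p.asIdeal
  rw [← RingHom.ker_eq_comap_bot, (RingHom.injective_iff_ker_eq_bot _).1 Subtype.val_injective]
  exact bot_le

/-- Distinct points of a separated integral scheme with one-dimensional local rings generate the
function field. -/
theorem localSubring_sup_eq_top (X : Scheme.{u}) [IsIntegral X] [X.IsSeparated] {x y : X} (hne : x ≠ y)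
    [IsNoetherianRing (X.presheaf.stalk x)] [IsNoetherianRing (X.presheaf.stalk y)]
    (hx : ringKrullDim (localSubring X x) = 1) (hy : ringKrullDim (localSubring X y) = 1) :
    localSubring X x ⊔ localSubring X y = ⊤ := by
  have := isFractionRing_localSubring X x
  have := isFractionRing_localSubring X y
  have := KrullAki.krullDimLE_one_of_dim_eq_one hx
  have := KrullAki.krullDimLE_one_of_dim_eq_one hy
  have := isFractionRing_localSubring X x
  have := KrullAki.isFractionRing_of_le (le_sup_left : localSubring X x ≤ localSubring X x ⊔ localSubring X y)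
  by_contra hT
  obtain ⟨V, hV, hVT⟩ := KrullAki.exists_valuationSubring_of_ne_top hT
  haveI : IsLocalRing V.toSubring := inferInstanceAs (IsLocalRing V)
  have hxV : localSubring X x ≤ V.toSubring := le_sup_left.trans hV
  have hyV : localSubring X y ≤ V.toSubring := le_sup_right.trans hV
  haveI := isDominant_specMap_subtype V.toSubring
  have hmaps : fromSubring X x V.toSubring hxV = fromSubring X y V.toSubring hyV :=
    ext_of_isDominant_of_isSeparated (terminal.from X) (terminal.hom_ext _ _)
      (Spec.map (CommRingCat.ofHom V.toSubring.subtype))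
      (by rw [specMap_subtype_fromSubring, specMap_subtype_fromSubring])
  have key : ∀ (z : X) (hz : localSubring X z ≤ V.toSubring), ringKrullDim (localSubring X z) = 1 →
      fromSubring X z V.toSubring hz (closedPoint V.toSubring) = z := by
    intro z hz hdz
    have := isFractionRing_localSubring X z
    have := KrullAki.krullDimLE_one_of_dim_eq_one hdz
    have hm := KrullAki.comapIdeal_isMaximal hz hVT
    rw [fromSubring, Scheme.Hom.comp_apply]
    convert Scheme.fromSpecStalk_closedPoint
    refine PrimeSpectrum.ext (IsLocalRing.eq_maximalIdeal ?_)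
    exact Ideal.comap_isMaximal_of_surjective (localEquiv X z).toRingHom (localEquiv X z).surjective (H := hm)
  exact hne ((key x hxV hx).symm.trans ((congrArg (fun f => f (closedPoint V.toSubring)) hmaps).trans (key y hyV hy)))

/-- The stalk map of `Spec O → X` at the closed point is an isomorphism, `O` the local ring itself. -/
theorem isIso_stalkMap_fromSpecStalk {X : Scheme.{u}} (x : X) (p : Spec (X.presheaf.stalk x))
    (hp : p = closedPoint (X.presheaf.stalk x)) : IsIso ((X.fromSpecStalk x).stalkMap p) := by
  subst hp
  have h : IsIso (Scheme.stalkClosedPointTo (X.fromSpecStalk x)) := by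
    rw [Scheme.stalkClosedPointTo_fromSpecStalk]
    infer_instance
  haveI : IsIso ((X.fromSpecStalk x).stalkMap (closedPoint (X.presheaf.stalk x)) ≫
    (stalkClosedPointIso (X.presheaf.stalk x)).hom) := h
  exact IsIso.of_isIso_comp_right _ (stalkClosedPointIso (X.presheaf.stalk x)).hom

theorem isIso_stalkMap_fromSubring (X : Scheme.{u}) [IsIntegral X] (x : X) (O : Subring X.functionField)
    (h : localSubring X x ≤ O) [IsLocalRing O]
    [IsIso (Spec.map (CommRingCat.ofHom ((Subring.inclusion h).comp (localEquiv X x).toRingHom)))] :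
    IsIso ((fromSubring X x O h).stalkMap (closedPoint O)) := by
  let σ := Spec.map (CommRingCat.ofHom ((Subring.inclusion h).comp (localEquiv X x).toRingHom))
  have hbij : Function.Bijective σ := σ.homeomorph.bijective
  have hp : σ (closedPoint O) = closedPoint (X.presheaf.stalk x) := by
    obtain ⟨q, hq⟩ := hbij.2 (closedPoint (X.presheaf.stalk x))
    refine le_antisymm ?_ ?_ |> fun e => (PrimeSpectrum.ext e : σ (closedPoint O) = _)
    · exact IsLocalRing.le_maximalIdeal (σ (closedPoint O)).isPrime.ne_top
    · rw [← hq]
      exact Ideal.comap_mono (IsLocalRing.le_maximalIdeal q.isPrime.ne_top)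
  haveI := isIso_stalkMap_fromSpecStalk x (σ (closedPoint O)) hp
  rw [fromSubring, Scheme.Hom.stalkMap_comp]
  infer_instance

/-- Finitely many points with one-dimensional Noetherian local rings on a separated integral scheme lie
in an affine open. -/
theorem exists_affineOpen_dim_one (X : Scheme.{u}) [IsIntegral X] [X.IsSeparated] (s : Finset X)
    (hs : ∀ x ∈ s, IsNoetherianRing (X.presheaf.stalk x) ∧ ringKrullDim (X.presheaf.stalk x) ≤ 1) :
    ∃ U : X.Opens, IsAffineOpen U ∧ ∀ x ∈ s, x ∈ U := by
  classical
  obtain ⟨U₀, hU₀, hgU₀, -⟩ := exists_isAffineOpen_mem_and_subset (X := X) (x := genericPoint X) (U := ⊤) trivial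
  let s' := s.filter (· ≠ genericPoint X)
  rcases s'.eq_empty_or_nonempty with he | hne
  · refine ⟨U₀, hU₀, fun x hx => ?_⟩
    obtain rfl : x = genericPoint X := by
      by_contra h
      exact Finset.eq_empty_iff_forall_notMem.1 he x (Finset.mem_filter.2 ⟨hx, h⟩)
    exact hgU₀
  let r := s'.card
  let e := s'.equivFin.symm
  let pt : Fin r → X := fun i => (e i).1
  let A : Fin r → Subring X.functionField := fun i => localSubring X (pt i)
  have hmem : ∀ i, pt i ∈ s ∧ pt i ≠ genericPoint X := fun i => Finset.mem_filter.1 (e i).2
  haveI hN' : ∀ i, IsNoetherianRing (X.presheaf.stalk (pt i)) := fun i => (hs _ (hmem i).1).1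
  haveI hN : ∀ i, IsNoetherianRing (A i) := fun i =>
    isNoetherianRing_of_ringEquiv _ (localEquiv X (pt i))
  haveI hF : ∀ i, IsFractionRing (A i) X.functionField := fun i => isFractionRing_localSubring X (pt i)
  have hdim : ∀ i, ringKrullDim (A i) = 1 := fun i => by
    rw [← ringKrullDim_eq_of_ringEquiv (localEquiv X (pt i))]
    refine le_antisymm (hs _ (hmem i).1).2 ?_
    by_contra hlt
    have h0 : Ring.KrullDimLE 0 (X.presheaf.stalk (pt i)) := Ring.krullDimLE_iff.2 (by
      rw [not_le] at hlt
      exact Order.le_of_lt_succ (lt_of_lt_of_eq hlt (by rfl)))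
    exact (hmem i).2 (eq_genericPoint_of_isField Ring.KrullDimLE.isField_of_isDomain)
  haveI hloc : ∀ i, IsLocalRing (A i) := fun i => (localEquiv X (pt i)).isLocalRing
  have hsl : ∀ i, Finite (MaximalSpectrum (A i)) := fun i => inferInstance
  have hgen : ∀ i j, i ≠ j → A i ⊔ A j = ⊤ := fun i j hij =>
    localSubring_sup_eq_top X (fun h => hij (e.injective (Subtype.ext h))) (hdim i) (hdim j)
  obtain ⟨-, -, -, hfrac, hopen, hcov, -⟩ :=
    S7665.result X.functionField r (Finset.card_pos.2 hne) A hdim hsl hgen
  set C : Subring X.functionField := ⨅ i, A i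
  haveI := hopen
  let j : ∀ i, Spec (CommRingCat.of (A i)) ⟶ Spec (CommRingCat.of C) :=
    fun i => Spec.map (CommRingCat.ofHom (Subring.inclusion (iInf_le A i)))
  let 𝒰 : (Spec (CommRingCat.of C)).OpenCover :=
    Scheme.Cover.mkOfCovers (ULift.{u} (Fin r)) (fun i => Spec (CommRingCat.of (A i.down))) (fun i => j i.down)
      (fun p => by
        obtain ⟨i, q, hq⟩ := Set.mem_iUnion.1 (hcov.ge (Set.mem_univ p))
        exact ⟨⟨i⟩, q, hq⟩)
      (fun i => hopen i.down)
  let g : ∀ i, Spec (CommRingCat.of (A i)) ⟶ X := fun i => fromSubring X (pt i) (A i) le_rfl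
  have hιj : ∀ i, Spec.map (CommRingCat.ofHom (A i).subtype) ≫ j i = Spec.map (CommRingCat.ofHom C.subtype) :=
    fun i => by rw [← Spec.map_comp]; rfl
  have hglue : ∀ i i', pullback.fst (j i) (j i') ≫ g i = pullback.snd (j i) (j i') ≫ g i' := by
    intro i i'
    haveI : IsOpenImmersion (j i') := hopen i'
    haveI : IsOpenImmersion (pullback.fst (j i) (j i')) := inferInstance
    haveI := isReduced_of_isOpenImmersion (pullback.fst (j i) (j i'))
    let l := pullback.lift (f := j i) (g := j i') (Spec.map (CommRingCat.ofHom (A i).subtype))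
      (Spec.map (CommRingCat.ofHom (A i').subtype)) ((hιj i).trans (hιj i').symm)
    haveI : IsDominant l := by
      refine ⟨denseRange_iff_closure_range.2 (Set.eq_univ_of_forall fun p => ?_)⟩
      rw [(pullback.fst (j i) (j i')).isEmbedding.closure_eq_preimage_closure_image]
      rw [Set.mem_preimage, ← Set.range_comp, ← TopCat.coe_comp, ← Scheme.Hom.comp_base, pullback.lift_fst,
        (isDominant_specMap_subtype (A i)).denseRange.closure_range]
      trivial
    refine ext_of_isDominant_of_isSeparated (terminal.from X) (terminal.hom_ext _ _) l ?_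
    rw [pullback.lift_fst_assoc, pullback.lift_snd_assoc, specMap_subtype_fromSubring,
      specMap_subtype_fromSubring]
  let f : Spec (CommRingCat.of C) ⟶ X :=
    Scheme.Cover.glueMorphisms 𝒰 (fun i => g i.down) fun i i' => hglue i.down i'.down
  have hjf : ∀ i, j i ≫ f = g i := fun i => 𝒰.ι_glueMorphisms _ _ ⟨i⟩
  have hquot : ∀ i, (j i ≫ f) (closedPoint (A i)) = pt i := fun i => by
    rw [hjf i]
    show (Spec.map _ ≫ X.fromSpecStalk _) _ = _
    rw [Scheme.Hom.comp_apply]
    convert Scheme.fromSpecStalk_closedPoint
    refine PrimeSpectrum.ext (IsLocalRing.eq_maximalIdeal ?_)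
    exact Ideal.comap_isMaximal_of_surjective ((Subring.inclusion le_rfl).comp (localEquiv X (pt i)).toRingHom)
      (fun z => (localEquiv X (pt i)).surjective z) (H := maximalIdeal.isMaximal (A i))
  have hiso : ∀ i, IsIso (f.stalkMap (j i (closedPoint (A i)))) := by
    intro i
    haveI : IsIso (Spec.map (CommRingCat.ofHom ((Subring.inclusion (le_refl (A i))).comp
        (localEquiv X (pt i)).toRingHom))) := by
      have : IsIso (CommRingCat.ofHom ((Subring.inclusion (le_refl (A i))).comp
          (localEquiv X (pt i)).toRingHom)) :=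
        (localEquiv X (pt i)).toCommRingCatIso.isIso_hom
      infer_instance
    have h : IsIso ((j i ≫ f).stalkMap (closedPoint (A i))) := by
      rw [hjf i]
      exact isIso_stalkMap_fromSubring X (pt i) (A i) le_rfl
    rw [Scheme.Hom.stalkMap_comp] at h
    haveI : IsOpenImmersion (j i) := hopen i
    exact IsIso.of_isIso_comp_right _ ((j i).stalkMap _)
  haveI : IrreducibleSpace (Spec (CommRingCat.of C)) := inferInstanceAs (IrreducibleSpace (PrimeSpectrum C))
  have hη : ∀ η : Spec (CommRingCat.of C), closure ({η} : Set _) ∈ irreducibleComponents _ →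
      f η = genericPoint X ∧ ∀ η', closure ({η'} : Set (Spec (CommRingCat.of C))) ∈ irreducibleComponents _ → η' = η := by
    intro η hη
    have huniv : ∀ η' : Spec (CommRingCat.of C), closure ({η'} : Set _) ∈ irreducibleComponents _ →
        closure ({η'} : Set _) = Set.univ := fun η' h => by
      rw [irreducibleComponents_eq_singleton, Set.mem_singleton_iff] at h
      exact h
    refine ⟨?_, fun η' hη' => (inseparable_iff_closure_eq.2 ((huniv η' hη').trans (huniv η hη).symm)).eq⟩
    obtain ⟨i⟩ : Nonempty (Fin r) := ⟨⟨0, Finset.card_pos.2 hne⟩⟩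
    let ξ : PrimeSpectrum X.functionField := ⟨⊥, Ideal.isPrime_bot⟩
    have hξ : Spec.map (CommRingCat.ofHom C.subtype) ξ = η := by
      refine (inseparable_iff_closure_eq.2 ?_).eq
      rw [huniv η hη]
      refine Set.eq_univ_of_forall fun p => specializes_iff_mem_closure.1 ((PrimeSpectrum.le_iff_specializes _ p).1 ?_)
      show (⊥ : Ideal X.functionField).comap C.subtype ≤ p.asIdeal
      rw [← RingHom.ker_eq_comap_bot, (RingHom.injective_iff_ker_eq_bot _).1 Subtype.val_injective]
      exact bot_le
    rw [← hξ, ← hιj i, ← Scheme.Hom.comp_apply, Category.assoc, hjf i, specMap_subtype_fromSubring]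
    have h2 : X.fromSpecStalk (genericPoint X) ξ ⤳ genericPoint X := by
      have : X.fromSpecStalk (genericPoint X) ξ ∈ Set.range (X.fromSpecStalk (genericPoint X)) := ⟨_, rfl⟩
      rwa [Scheme.range_fromSpecStalk] at this
    exact (h2.antisymm ((genericPoint_spec X).specializes trivial)).eq
  obtain ⟨U, hU, hUmem⟩ := exists_affineOpen_containing f
    (fun η h => by
      rw [show f.base η = genericPoint X from (hη η h).1, genericPoint_closure, irreducibleComponents_eq_singleton]
      exact rfl)
    (fun η η' h h' _ => ((hη η h).2 η' h').symm) (Finset.univ.image fun i => j i (closedPoint (A i)))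
    (fun t ht => by
      obtain ⟨i, -, rfl⟩ := Finset.mem_image.1 ht
      exact hiso i)
  have hmemU : ∀ i, pt i ∈ U := fun i => by
    rw [← hquot i, Scheme.Hom.comp_apply]
    exact hUmem _ (Finset.mem_image.2 ⟨i, Finset.mem_univ i, rfl⟩)
  refine ⟨U, hU, fun x hx => ?_⟩
  by_cases hxg : x = genericPoint X
  · subst hxg
    exact ((genericPoint_spec X).mem_open_set_iff U.isOpen).2 ⟨_, trivial, hmemU ⟨0, Finset.card_pos.2 hne⟩⟩
  · have := hmemU (s'.equivFin ⟨x, Finset.mem_filter.2 ⟨hx, hxg⟩⟩)
    simpa [pt, e] using this

end Groth.Agent.AffineNhd
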